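import Cfsg.Agent.H781.Cov9.Res
import Cfsg.Agent.StandardComponent.AltAut
import Cfsg.Agent.H845.AutUFour
import Cfsg.Agent.H597.L2Aut
import Cfsg.Agent.Schreier.PSU
import Cfsg.Agent.H918.UProper
import Cfsg.Agent.S0280
import Cfsg.Agent.S0243
import Cfsg.Agent.FastGrp
import Cfsg.Agent.Prune
set_option linter.all false
prune_inst 0x7f00000000000000000000000000000000000000000000000000000000000000000000000000000000000000000000000000000000000000000000000000000000000000000000000000000000000000003fffffffffffffffffffffffffffbeffbdffffffff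
open scoped Cfsg.Agent.FastGrp

/-!
# `SU_4(q)`: general tools for the maximality of the geometric subgroups

* `isMaximalIn_of_forall` : `H < K` finite is maximal in `K` if every maximal subgroup of `K` containing `H` is `H`.
* `Res` : the statement of the residual class theorem of `SU_4(q)` (S5785) as a predicate.
* `Res.card_dvd`, `Res.perfect` : consequences for subgroups of a maximal subgroup in the residual class.
-/

set_option autoImplicit false
open Cfsg
open scoped Matrix MatrixGroups commutatorElement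

namespace Cfsg.Agent.H900.SU4

/-- `H < K` is maximal in `K` if every maximal subgroup of `K` above `H` is `H`. -/
theorem isMaximalIn_of_forall {G : Type*} [Group G] [Finite G] {K H : Subgroup G} (hlt : H < K)
    (h : ∀ M : Subgroup G, Geo.IsMaximalIn K M → H ≤ M → M = H) : Geo.IsMaximalIn K H := by
  refine ⟨hlt, fun N hHN hNK => ?_⟩
  by_cases hN : N = K
  · exact Or.inr hN
  left
  have hfin : ({M : Subgroup G | N ≤ M ∧ M < K}).Finite := Set.toFinite _
  obtain ⟨M, hM⟩ := hfin.exists_maximal ⟨N, le_refl N, lt_of_le_of_ne hNK hN⟩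
  have hMmax : Geo.IsMaximalIn K M := by
    refine ⟨hM.prop.2, fun L hML hLK => ?_⟩
    by_cases hL : L = K
    · exact Or.inr hL
    · left
      exact le_antisymm (hM.le_of_ge ⟨hM.prop.1.trans hML, lt_of_le_of_ne hLK hL⟩ hML) hML
  have h1 := h M hMmax (hHN.trans hM.prop.1)
  exact le_antisymm (hM.prop.1.trans h1.le) hHN

section core

variable {ι : Type} [Fintype ι] [DecidableEq ι] {F : Type*} [Field F]
variable {H P : Subgroup (GL ι F)}

/-- The conjugation action modulo scalars is faithful on the core modulo scalars. -/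
theorem exists_core_inj (h : Geo.IsResidualCore H P) :
    ∃ φ : (H ⧸ (Geo.scalars ι F).subgroupOf H) →* MulAut (P ⧸ (Geo.scalars ι F).subgroupOf P),
      Function.Injective φ := by
  set Z := (Geo.scalars ι F).subgroupOf H with hZ
  let π := QuotientGroup.mk' Z
  set Pb : Subgroup (H ⧸ Z) := (P.subgroupOf H).map π with hPb
  let e := H917.coreEquiv (F := F) h.le
  have hPn : (P.subgroupOf H).Normal := ⟨fun x hx g => by
    rw [Subgroup.mem_subgroupOf] at hx ⊢
    exact h.normal g g.2 x hx⟩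
  have hn : Pb.Normal := hPn.map π (QuotientGroup.mk'_surjective _)
  let φ : (H ⧸ Z) →* MulAut Pb := MulAut.conjNormal
  have hφ : ∀ x, φ x = 1 → x = 1 := by
    intro x hx
    obtain ⟨g, rfl⟩ := QuotientGroup.mk'_surjective Z x
    apply (QuotientGroup.eq_one_iff _).2
    apply h.centralizer_scalar g g.2
    intro y hy
    have h2 := congrArg (fun f : MulAut Pb => ((f ⟨π ⟨y, h.le hy⟩, ⟨⟨y, h.le hy⟩, hy, rfl⟩⟩ : Pb) : H ⧸ Z)) hx
    simp only [φ, MulAut.conjNormal_apply, MulAut.one_apply] at h2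
    have h3 : π (g * ⟨y, h.le hy⟩ * g⁻¹ * (⟨y, h.le hy⟩ : H)⁻¹) = 1 := by
      rw [map_mul, map_inv, mul_inv_eq_one, map_mul, map_mul, map_inv]
      exact h2
    have h4 : g * ⟨y, h.le hy⟩ * g⁻¹ * (⟨y, h.le hy⟩ : H)⁻¹ ∈ Z := (QuotientGroup.eq_one_iff _).1 h3
    exact h4
  have hinj : Function.Injective φ := (injective_iff_map_eq_one φ).2 hφ
  exact ⟨((MulAut.congr e.symm).toMonoidHom).comp φ, (MulAut.congr e.symm).injective.comp hinj⟩

/-- A group mapping to `H` with no nontrivial element mapping to a scalar has order dividing `|Aut (P/Z)|`. -/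
theorem card_dvd_of_core {B : Type*} [Group B] (h : Geo.IsResidualCore H P) (f : B →* GL ι F)
    (hf : ∀ b, f b ∈ H) (hs : ∀ b, f b ∈ Geo.scalars ι F → b = 1) :
    Nat.card B ∣ Nat.card (MulAut (P ⧸ (Geo.scalars ι F).subgroupOf P)) := by
  obtain ⟨φ, hφ⟩ := exists_core_inj h
  let g : B →* H := f.codRestrict H hf
  let k : B →* (H ⧸ (Geo.scalars ι F).subgroupOf H) := (QuotientGroup.mk' _).comp g
  refine Subgroup.card_dvd_of_injective (φ.comp k) (hφ.comp ?_)
  rw [injective_iff_map_eq_one]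
  intro b hb
  apply hs
  exact (QuotientGroup.eq_one_iff (g b)).1 hb

/-- `H917.le_core` with the Schreier property of the core only. -/
theorem le_core' [Finite F] (h : Geo.IsResidualCore H P)
    (hSch : Schreier.Basic.Sch (P ⧸ (Geo.scalars ι F).subgroupOf P))
    {Y : Subgroup (GL ι F)} (hYH : Y ≤ H) (hY : ⁅Y, Y⁆ = Y) : Y ≤ P := by
  have hfin : Finite (GL ι F) := inferInstance
  set Z := (Cfsg.Geo.scalars ι F).subgroupOf H with hZ
  let π := QuotientGroup.mk' Z
  set Pb : Subgroup (H ⧸ Z) := (P.subgroupOf H).map π with hPb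
  let e := H917.coreEquiv (F := F) h.le
  have hS : Schreier.Basic.Sch Pb := Schreier.Basic.Sch.of_equiv e hSch
  have hPn : (P.subgroupOf H).Normal := ⟨fun x hx g => by
    rw [Subgroup.mem_subgroupOf] at hx ⊢
    exact h.normal g g.2 x hx⟩
  have hn : Pb.Normal := hPn.map π (QuotientGroup.mk'_surjective _)
  let φ : (H ⧸ Z) →* MulAut Pb := MulAut.conjNormal
  have hφ : ∀ x, φ x = 1 → x = 1 := by
    intro x hx
    obtain ⟨g, rfl⟩ := QuotientGroup.mk'_surjective Z x
    apply (QuotientGroup.eq_one_iff _).2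
    apply h.centralizer_scalar g g.2
    intro y hy
    have h2 := congrArg (fun f : MulAut Pb => ((f ⟨π ⟨y, h.le hy⟩, ⟨⟨y, h.le hy⟩, hy, rfl⟩⟩ : Pb) : H ⧸ Z)) hx
    simp only [φ, MulAut.conjNormal_apply, MulAut.one_apply] at h2
    have h3 : π (g * ⟨y, h.le hy⟩ * g⁻¹ * (⟨y, h.le hy⟩ : H)⁻¹) = 1 := by
      rw [map_mul, map_inv, mul_inv_eq_one, map_mul, map_mul, map_inv]
      exact h2
    have h4 : g * ⟨y, h.le hy⟩ * g⁻¹ * (⟨y, h.le hy⟩ : H)⁻¹ ∈ Z := (QuotientGroup.eq_one_iff _).1 h3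
    exact h4
  set D : Subgroup (H ⧸ Z) := (Y.subgroupOf H).map π with hD
  have hDp : ⁅D, D⁆ = D := by
    rw [hD, ← Subgroup.map_commutator]
    congr 1
    apply Subgroup.map_injective (Subgroup.subtype_injective H)
    rw [Subgroup.map_commutator, Subgroup.subgroupOf_map_subtype, inf_eq_left.2 hYH, hY]
  apply H917.le_of_le_sup_scalars hY
  intro y hy
  have h1 : ⁅D.map φ, D.map φ⁆ = D.map φ := by rw [← Subgroup.map_commutator, hDp]
  have hyD : π ⟨y, hYH hy⟩ ∈ D := ⟨⟨y, hYH hy⟩, hy, rfl⟩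
  obtain ⟨x, hx⟩ := hS _ h1 (Subgroup.mem_map_of_mem φ hyD)
  obtain ⟨x, ⟨p, hp, rfl⟩⟩ := x
  have h2 : φ ((π p)⁻¹ * π ⟨y, hYH hy⟩) = 1 := by
    rw [map_mul, map_inv, ← hx]
    have h3 : φ (π p) = MulAut.conj (⟨π p, ⟨p, hp, rfl⟩⟩ : Pb) := by
      ext z
      simp only [φ, MulAut.conjNormal_apply, MulAut.conj_apply, _root_.Subgroup.coe_mul, _root_.InvMemClass.coe_inv]
    rw [h3, inv_mul_cancel]
  have h3 := hφ _ h2
  rw [← map_inv, ← map_mul] at h3
  have h4 := (QuotientGroup.eq_one_iff _).1 h3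
  exact ⟨p, hp, (p : GL ι F)⁻¹ * y, h4, by group⟩

/-- A perfect subgroup of `H` has order modulo scalars dividing that of the core. -/
theorem card_dvd_of_perfect [Finite F] (h : Geo.IsResidualCore H P)
    (hSch : Schreier.Basic.Sch (P ⧸ (Geo.scalars ι F).subgroupOf P))
    {Y : Subgroup (GL ι F)} (hYH : Y ≤ H) (hY : ⁅Y, Y⁆ = Y) :
    ((Geo.scalars ι F).subgroupOf Y).index ∣ Nat.card (P ⧸ (Geo.scalars ι F).subgroupOf P) := by
  have hle := le_core' h hSch hYH hY
  let f : Y →* (P ⧸ (Geo.scalars ι F).subgroupOf P) := (QuotientGroup.mk' _).comp (Subgroup.inclusion hle)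
  have hk : f.ker = (Geo.scalars ι F).subgroupOf Y := by
    ext x
    rw [MonoidHom.mem_ker, Subgroup.mem_subgroupOf]
    exact QuotientGroup.eq_one_iff (Subgroup.inclusion hle x)
  rw [← hk, Subgroup.index_ker]
  exact Subgroup.card_subgroup_dvd_card _

end core

section res

/-- The conclusion of the theorem on the residual class of `SU_4(q)`. -/
def Res (F : Type*) [Field F] [Fintype F] (q : ℕ) : Prop :=
  ∀ H : Subgroup (Matrix.GeneralLinearGroup (Fin 4) F),
    Cfsg.Geo.IsMaximalIn (Cfsg.GU 4 F q ⊓ Cfsg.Geo.specialLinear (Fin 4) F) H →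
    Cfsg.Geo.InUnitaryResidualClass H →
    ∃ P : Subgroup (Matrix.GeneralLinearGroup (Fin 4) F), Cfsg.Geo.IsResidualCore H P ∧ q.Prime ∧
    ((Nonempty ((P ⧸ (Cfsg.Geo.scalars (Fin 4) F).subgroupOf P) ≃* alternatingGroup (Fin 7)) ∧ (q % 7 = 3 ∨ q % 7 = 5 ∨ q % 7 = 6)) ∨
     ((∃ (K : Type) (_ : Field K) (_ : Fintype K), Fintype.card K = 4 ∧ Nonempty ((P ⧸ (Cfsg.Geo.scalars (Fin 4) F).subgroupOf P) ≃* Matrix.ProjectiveSpecialLinearGroup (Fin 3) K)) ∧ q = 3) ∨
     ((∃ (K : Type) (_ : Field K) (_ : Fintype K), Fintype.card K = 4 ∧ Nonempty ((P ⧸ (Cfsg.Geo.scalars (Fin 4) F).subgroupOf P) ≃* Cfsg.PSU 4 K 2)) ∧ q % 6 = 5))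

theorem card_psu_four {F : Type*} [Field F] [Fintype F] (hF : Fintype.card F = 4) :
    Nat.card (Cfsg.PSU 4 F 2) = 25920 := by
  have h := S0280.result (F := F) (q := 2) (by rw [hF]; norm_num) 4 (by norm_num)
  simp only [Finset.prod_range_succ, Nat.even_iff, _root_.Nat.reduceAdd, _root_.Nat.reduceGcd, _root_.one_mul, _root_.Nat.add_one_sub_one, _root_.Nat.reduceMul, _root_.Nat.reduceDiv, _root_.Nat.reducePow, _root_.Finset.range_one, _root_.Finset.prod_singleton, _root_.Nat.zero_mod, ↓ _root_.reduceIte, _root_.zero_add, _root_.pow_one, _root_.Nat.mod_succ, _root_.one_ne_zero, _root_.Nat.mod_self, _root_.Nat.reduceMod] at h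
  omega

theorem card_alt_seven : Nat.card (alternatingGroup (Fin 7)) = 2520 := by
  rw [nat_card_alternatingGroup, Nat.card_eq_fintype_card, Fintype.card_fin]
  rfl

theorem card_mulAut_alt_seven : Nat.card (MulAut (alternatingGroup (Fin 7))) ∣ 5040 := by
  obtain ⟨ψ, hψ⟩ := StandardComponent.AltAut.exists_autHom 7 le_rfl
  have hinj : Function.Injective ψ := by
    intro a b hab
    ext x : 1
    apply Subtype.ext
    rw [hψ, hψ, hab]
  have h1 := Subgroup.card_dvd_of_injective ψ hinj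
  have h2 : Nat.card (Equiv.Perm (Fin 7)) = 5040 := by
    rw [Nat.card_perm, Nat.card_eq_fintype_card, Fintype.card_fin]
    rfl
  rwa [h2] at h1

variable {F : Type*} [Field F] [Fintype F] {q : ℕ}

/-- A group mapping without scalars into a residual maximal subgroup. -/
theorem Res.card_dvd (hR : Res F q) {M : Subgroup (GL (Fin 4) F)}
    (hM : Geo.IsMaximalIn (GU 4 F q ⊓ Geo.specialLinear (Fin 4) F) M)
    (hS : Geo.InUnitaryResidualClass M) (h3 : q ≠ 3) {B : Type*} [Group B] (f : B →* GL (Fin 4) F)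
    (hf : ∀ b, f b ∈ M) (hs : ∀ b, f b ∈ Geo.scalars (Fin 4) F → b = 1) :
    q.Prime ∧ (Nat.card B ∣ 5040 ∨ (Nat.card B ∣ 51840 ∧ q % 6 = 5)) := by
  obtain ⟨P, hc, hq, h | h | h⟩ := hR M hM hS
  · refine ⟨hq, Or.inl ((card_dvd_of_core hc f hf hs).trans ?_)⟩
    obtain ⟨⟨e⟩, -⟩ := h
    rw [Nat.card_congr (MulAut.congr e).toEquiv]
    exact card_mulAut_alt_seven
  · exact absurd h.2 h3
  · refine ⟨hq, Or.inr ⟨(card_dvd_of_core hc f hf hs).trans ?_, h.2⟩⟩
    obtain ⟨⟨K, _, _, hK, ⟨e⟩⟩, -⟩ := h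
    rw [Nat.card_congr (MulAut.congr e).toEquiv, H845.AutUFour.card_mulAut_PSU hK,
      card_psu_four hK]

theorem sch_of_seven_le {n : ℕ} (hn : 7 ≤ n) : Schreier.Basic.Sch (alternatingGroup (Fin n)) := by
  obtain ⟨ψ, hψ⟩ := Cfsg.Agent.StandardComponent.AltAut.exists_autHom n hn
  intro D hD φ hφ
  have h1 : (Equiv.Perm.sign.comp ψ) φ = 1 := Schreier.Basic.apply_eq_one_of_perfect _ hD hφ
  refine ⟨⟨ψ φ, Equiv.Perm.mem_alternatingGroup.2 h1⟩, ?_⟩
  apply MulEquiv.ext
  intro x
  apply Subtype.ext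
  rw [hψ φ, MulAut.conj_apply]
  rfl

theorem card_psl_three_four {K : Type} [Field K] [Fintype K] (hK : Fintype.card K = 4) :
    Nat.card (Matrix.ProjectiveSpecialLinearGroup (Fin 3) K) = 20160 := by
  have h := S0243.result (F := K) hK 3 (by norm_num)
  rw [Fin.prod_univ_three] at h
  norm_num only [_root_.Fin.coe_ofNat_eq_mod, _root_.pow_zero, _root_.Nat.add_one_sub_one, _root_.pow_one] at h
  omega

/-- A perfect subgroup of a residual maximal subgroup of `SU_4(q)` has order modulo scalars dividing that of the core. -/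
theorem Res.perfect (hR : Res F q) {M : Subgroup (GL (Fin 4) F)}
    (hM : Geo.IsMaximalIn (GU 4 F q ⊓ Geo.specialLinear (Fin 4) F) M)
    (hS : Geo.InUnitaryResidualClass M) {Y : Subgroup (GL (Fin 4) F)} (hYM : Y ≤ M) (hY : ⁅Y, Y⁆ = Y) :
    ((Geo.scalars (Fin 4) F).subgroupOf Y).index ∣ 2520 ∨
    ((Geo.scalars (Fin 4) F).subgroupOf Y).index ∣ 20160 ∨
    ((Geo.scalars (Fin 4) F).subgroupOf Y).index ∣ 25920 := by
  obtain ⟨P, hc, hq, h | h | h⟩ := hR M hM hS
  · left
    obtain ⟨⟨e⟩, -⟩ := h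
    have := card_dvd_of_perfect hc (Schreier.Basic.Sch.of_equiv e.symm (sch_of_seven_le le_rfl)) hYM hY
    rwa [Nat.card_congr e.toEquiv, card_alt_seven] at this
  · right; left
    obtain ⟨⟨K, _, _, hK, ⟨e⟩⟩, -⟩ := h
    have := card_dvd_of_perfect hc (Schreier.Basic.Sch.of_equiv e.symm (Schreier.ClassPSL.sch (by norm_num))) hYM hY
    rwa [Nat.card_congr e.toEquiv, card_psl_three_four hK] at this
  · right; right
    obtain ⟨⟨K, _, _, hK, ⟨e⟩⟩, -⟩ := h
    have := card_dvd_of_perfect hc (Schreier.Basic.Sch.of_equiv e.symm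
      (Schreier.PSU.sch (by rw [hK]; norm_num) (by norm_num) (by norm_num))) hYM hY
    rwa [Nat.card_congr e.toEquiv, card_psu_four hK] at this

end res

end Cfsg.Agent.H900.SU4

private theorem dce_53b95f18234d : _root_.True := by
  try have : _root_.True := by simp only [_root_.Matrix.ProjectiveSpecialLinearGroup.congr_simp]
  exact _root_.True.intro
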